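import Cfsg.Agent.H12.CSix.Eight.Uni
import Cfsg.Agent.H12.CSix.Four.Core

/-!
The unitary statement in dimension four.
-/

set_option autoImplicit false
set_option linter.unusedSectionVars false

namespace Cfsg.Agent.H12.CSix.Eight

open Matrix Cfsg.Agent.H97.CSix
open scoped commutatorElement

variable {F : Type*} [Field F] [Fintype F] {p : ℕ}

/-- The determinant-one group in the form of `SU`. -/
def toG4 : Cfsg.SU 4 F p →* GL (Fin 4) F :=
  (Matrix.SpecialLinearGroup.toGL).comp (Cfsg.SU 4 F p).subtype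

theorem range_toG4 : (toG4 (F := F) (p := p)).range = Four.G4 F p := by
  ext g
  constructor
  · rintro ⟨A, rfl⟩
    exact ⟨A.2, MonoidHom.mem_ker.2 (Units.ext (by simp [toG4]))⟩
  · intro hg
    obtain ⟨A, hA⟩ := Four.toSU4_surjective (Four.toSU4 F p ⟨g, hg⟩)
    exact ⟨Four.toSU4 F p ⟨g, hg⟩, Units.ext rfl⟩

theorem G4_perfect (hF : Fintype.card F = p ^ 2) : Four.G4 F p ≤ ⁅Four.G4 F p, Four.G4 F p⁆ := by
  rw [← range_toG4, MonoidHom.range_eq_map, ← Subgroup.map_commutator, ← commutator_def,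
    Unitary.commutator_eq_top hF (Or.inl le_rfl)]

variable (hF : Fintype.card F = p ^ 2) (hp : p.Prime) (hp4 : p % 4 = 3) (r : Root F)

/-- The setting of dimension four attached to the root. -/
def u4 : Four.U4 F p := ⟨hF, hp, hp4, r.i, r.sq⟩

open H69.SLFour.Pauli in
theorem std_eq : (u4 hF hp hp4 r).Std = stdR r.sq := by
  show Subgroup.closure (Set.range (u4 hF hp hp4 r).gens) = Subgroup.closure _
  congr 1
  have e0 : (Four.gA1 : GL (Fin 4) F) = H69.SLFour.Pauli.gA1 := Units.ext rfl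
  have e1 : (Four.gB1 : GL (Fin 4) F) = H69.SLFour.Pauli.gB1 := Units.ext rfl
  have e2 : (Four.gA2 : GL (Fin 4) F) = H69.SLFour.Pauli.gA2 := Units.ext rfl
  have e3 : (Four.gB2 : GL (Fin 4) F) = H69.SLFour.Pauli.gB2 := Units.ext rfl
  have e4 : (u4 hF hp hp4 r).gI = gi r.sq := Units.ext rfl
  ext g
  simp only [Set.mem_range, Fin.exists_fin_succ, Four.U4.gens, Set.mem_insert_iff, Set.mem_singleton_iff,
    ← e0, ← e1, ← e2, ← e3, ← e4]
  simp [eq_comm]
  tauto

theorem re4_R_le {g : GL Four F} (hg : g ∈ r.R Four) : re4 g ∈ (u4 hF hp hp4 r).Std := by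
  rw [std_eq]; exact re4_mem_stdR r hg

theorem mem_Y_of_NS {g : GL Four F} (hy : re4 g ∈ (u4 hF hp hp4 r).NS) : g ∈ r.Y Four := by
  refine r.mem_Y fun q hq => ?_
  have hm := (Subgroup.mem_normalizer_iff.1 hy (re4 q)).1 (re4_R_le hF hp hp4 r hq)
  rw [std_eq] at hm
  obtain ⟨q', hq', e⟩ := stdR_le_map r hm
  have e' : g * q * g⁻¹ = q' := re4.injective (by rw [map_mul, map_mul, map_inv]; exact e.symm)
  rwa [e']

theorem re4_mem {g : GL Four F} (hg : g ∈ suGrp (Unitary.frob hF) Four) : re4 g ∈ Four.G4 F p := by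
  have := (reG_mem_suGrp (Unitary.frob hF) e4).2 hg
  rwa [suGrp, uGrp_GU hF] at this

theorem of_re4_mem {g : GL Four F} (hg : re4 g ∈ Four.G4 F p) : g ∈ suGrp (Unitary.frob hF) Four := by
  refine (reG_mem_suGrp (Unitary.frob hF) e4).1 ?_
  rw [suGrp, uGrp_GU hF]
  exact hg

include hp hp4 in
/-- A unitary overgroup of the generated group outside the normaliser contains the special unitary group. -/
theorem baseU {X : Subgroup (GL Four F)} (hX : r.gam Four ≤ X)
    (hw : ∃ g ∈ X, g ∈ suGrp (Unitary.frob hF) Four ∧ g ∉ r.Y Four) :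
    suGrp (Unitary.frob hF) Four ≤ X := by
  obtain ⟨g, hgX, hgS, hgY⟩ := hw
  set S := u4 hF hp hp4 r
  set M := (withScal X).map (re4 (F := F)).toMonoidHom ⊓ Four.G4 F p with hM
  have hNM : S.NS ⊓ Four.G4 F p ≤ M := by
    rintro y ⟨hy, hyS⟩
    refine ⟨⟨re4.symm y, ?_, re4.apply_symm_apply y⟩, hyS⟩
    have hY : re4.symm y ∈ r.Y Four := mem_Y_of_NS hF hp hp4 r (by rw [re4.apply_symm_apply]; exact hy)
    obtain ⟨n, hn, hs⟩ := Y_le r hY
    refine ⟨n⁻¹ * re4.symm y, n, hs, hX hn, ?_⟩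
    rw [hs.comm n, mul_inv_cancel_left]
  have hgM : re4 g ∈ M := ⟨⟨g, ⟨1, g, IsScal.one, hgX, (one_mul g).symm⟩, rfl⟩, re4_mem hF hgS⟩
  rcases S.core (M := M) inf_le_right hNM with h | h
  · exact absurd (mem_Y_of_NS hF hp hp4 r (h hgM)) hgY
  · have hle : Four.G4 F p ≤ X.map (re4 (F := F)).toMonoidHom := by
      refine le_trans (G4_perfect hF) (Subgroup.commutator_le.2 fun a ha b hb => ?_)
      rw [← h] at ha hb
      obtain ⟨_, ⟨s, x, hs, hx, rfl⟩, rfl⟩ := ha.1
      obtain ⟨_, ⟨t, y, ht, hy, rfl⟩, rfl⟩ := hb.1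
      refine ⟨⁅x, y⁆, ?_, ?_⟩
      · rw [commutatorElement_def]
        exact mul_mem (mul_mem (mul_mem hx hy) (inv_mem hx)) (inv_mem hy)
      · rw [← map_commutatorElement]
        refine congrArg _ ?_
        rw [commutatorElement_def, commutatorElement_def, _root_.mul_inv_rev, _root_.mul_inv_rev]
        have cs : ∀ w, s * w = w * s := fun w => hs.comm w
        have ct : ∀ w, t * w = w * t := fun w => ht.comm w
        rw [show s * x * (t * y) * (x⁻¹ * s⁻¹) * (y⁻¹ * t⁻¹) =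
            s * (x * (t * y) * x⁻¹) * s⁻¹ * y⁻¹ * t⁻¹ by group, cs, mul_inv_cancel_right,
          show x * (t * y) * x⁻¹ = (x * t) * y * x⁻¹ by group, ← ct,
          show t * x * y * x⁻¹ * y⁻¹ * t⁻¹ = t * (x * y * x⁻¹ * y⁻¹) * t⁻¹ by group, ct, mul_inv_cancel_right]
    intro z hz
    obtain ⟨w, hw, e⟩ := hle (re4_mem hF hz)
    exact re4.injective e ▸ hw

include hp hp4 in
/-- The normaliser in dimension four is proper. -/
theorem exists_not_Y : ∃ g ∈ suGrp (Unitary.frob hF) Four, g ∉ r.Y Four := by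
  set S := u4 hF hp hp4 r
  obtain ⟨g, hg, hg'⟩ := S.exists_not_NS
  refine ⟨re4.symm g, of_re4_mem hF (by rw [re4.apply_symm_apply]; exact hg), fun h => hg' ?_⟩
  refine S.mem_NS_of_maps ?_ ?_
  all_goals
    intro x hx
    rw [std_eq] at hx ⊢
    obtain ⟨q, hq, rfl⟩ := stdR_le_map r hx
  · have := re4_mem_stdR r (r.conj_mem h hq)
    rwa [map_mul, map_mul, map_inv, re4.apply_symm_apply] at this
  · have := re4_mem_stdR r (r.conj_mem (inv_mem h) hq)
    rwa [inv_inv, map_mul, map_mul, map_inv, re4.apply_symm_apply] at this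

end Cfsg.Agent.H12.CSix.Eight
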