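import Cfsg.Agent.H12.CSix.Eight.Base

/-!
A controlled gate outside the standard group yields the special unitary group in dimension eight.
-/

set_option autoImplicit false
set_option linter.unusedSectionVars false

namespace Cfsg.Agent.H12.CSix.Eight

open Matrix Cfsg.Agent.H97.CSix
open Cfsg.Agent.H95 Cfsg.Agent.Symplectic Cfsg.Agent.H63.UDec

variable {F : Type*} [Field F]

theorem uGrp_of_bd {β : Type} [AddCommGroup β] [Qubits β] [Fintype β] [DecidableEq β] {σ : F ≃+* F} {x y : GL β F}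
    (h : bdU x y ∈ uGrp σ (ZMod 2 × β)) : x ∈ uGrp σ β := by
  rw [mem_uGrp, bdU_val] at h
  have ht : (bd (x : Matrix β β F) (y : Matrix β β F))ᵀ = bd (x : Matrix β β F)ᵀ (y : Matrix β β F)ᵀ := by
    ext ⟨u, u'⟩ ⟨v, v'⟩
    rcases z2_cases u with rfl | rfl <;> rcases z2_cases v with rfl | rfl <;> simp [bd_apply, z2_ne, z2_ne.symm]
  have hm : (bd (x : Matrix β β F) (y : Matrix β β F)).map σ =
      bd ((x : Matrix β β F).map σ) ((y : Matrix β β F).map σ) := by
    ext ⟨u, u'⟩ ⟨v, v'⟩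
    rcases z2_cases u with rfl | rfl <;> rcases z2_cases v with rfl | rfl <;> simp [bd_apply, z2_ne, z2_ne.symm]
  rw [ht, hm, bd_mul, ← bd_one] at h
  exact mem_uGrp.2 (bd_inj h).1

variable [Fintype F] {p : ℕ}

theorem ut_entry {n : ℕ} {σ : F ≃+* F} (hσ : ∀ x, σ x = x ^ p)
    (hf : Geo.IsUnitaryForm σ (Cfsg.hermForm n F p)) {v : Fin n → F} (hv : Cfsg.hermForm n F p v v = 0) (l : F)
    (i j : Fin n) :
    (ut hf v l : Matrix (Fin n) (Fin n) F) i j = (if i = j then 1 else 0) + l * σ (v j) * v i := by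
  classical
  have := congrFun (ut_mulVec hf hv l (Pi.single j 1)) i
  rw [Matrix.mulVec_single_one] at this
  simp only [Matrix.col_apply, Pi.add_apply, Pi.smul_apply, smul_eq_mul] at this
  rw [this, herm_sum hσ, Finset.sum_eq_single j (fun k _ hk => by simp [Pi.single_eq_of_ne hk]) (by simp),
    Pi.single_eq_same, one_mul]
  simp [Pi.single_apply]

variable (hF : Fintype.card F = p ^ 2) (hp : p.Prime) (hp4 : p % 4 = 3) (r : Root F)
variable {H : Subgroup (GL Eight F)} (hH : r.gam Eight ≤ H) (hu : H ≤ suGrp (Unitary.frob hF) Eight)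
include hp hp4 hH hu

/-- The first block projection of a group with a controlled gate contains the special unitary group. -/
theorem projX_ge (hN : ¬ NoCtrl r H) : suGrp (Unitary.frob hF) Four ≤ projX H := by
  simp only [NoCtrl, not_forall] at hN
  obtain ⟨x₀, hx₀, hR⟩ := hN
  set D : GL Four F := bdU 1 x₀
  set x : GL Four F := x1
  have hx : x * x = 1 := pu_sq_of_dot (Qubits.zero_dot _)
  have hw : D * x * D⁻¹ * (D * x * D⁻¹) = 1 := by
    rw [show D * x * D⁻¹ * (D * x * D⁻¹) = D * (x * x) * D⁻¹ by group, hx, mul_one, mul_inv_cancel]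
  have hT : r.T x hx ∈ projX H := gam_le_projX r hH (r.T_mem_gam hx (pu_mem _ _ _ _))
  have hmem : D * r.T x hx * D⁻¹ * (r.T x hx)⁻¹ ∈ projX H :=
    mul_mem (mul_mem (mul_mem hx₀ hT) (inv_mem hx₀)) (inv_mem hT)
  refine baseU hF hp hp4 r (fun n hn => gam_le_projX r hH hn)
    ⟨D * r.T x hx * D⁻¹ * (r.T x hx)⁻¹, hmem, ⟨?_, ?_⟩, fun hY => hR ?_⟩
  · obtain ⟨y, hy⟩ := hmem
    exact uGrp_of_bd (hu hy).1
  · show Matrix.GeneralLinearGroup.det _ = 1
    rw [map_mul, map_mul, map_mul, map_inv, map_inv, mul_inv_cancel_comm, mul_inv_cancel]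
  rw [conj_T r hx hw] at hY
  have hTY : r.T _ hw ∈ r.Y Four := by
    have := mul_mem hY (r.T_mem_Y hx (pu_mem _ _ _ _))
    rwa [inv_mul_cancel_right] at this
  set z : GL Four F := z1
  have hDz : D⁻¹ * z * D = z := Units.ext (by
    simp only [D, Units.val_mul, bdU_inv, bdU_val, z, z1_val, bd_mul, inv_one, Units.val_one, mul_one, mul_neg,
      neg_mul, Units.inv_mul])
  have hanti : D * x * D⁻¹ * z = -(z * (D * x * D⁻¹)) := by
    have hxz : x * z = -(z * x) := Units.ext (by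
      rw [Units.val_mul, Units.val_neg, Units.val_mul, pu_val, pu_val, pmat_comm]
      simp [dot_prod, Qubits.zero_dot, Qubits.dot_zero])
    have e : D * x * D⁻¹ * z = D * (x * (D⁻¹ * z * D)) * D⁻¹ := by group
    rw [e, hDz, hxz]
    have e2 : z * (D * x * D⁻¹) = D * ((D⁻¹ * z * D) * x) * D⁻¹ := by group
    rw [e2, hDz, mul_neg, neg_mul]
  have hwR : D * x * D⁻¹ ∈ r.R Four := by
    have hzR : z ∈ r.R Four := pu_mem _ _ _ _
    have := r.conj_mem hTY hzR
    rw [r.T_anti hw hanti] at this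
    have := mul_mem (mul_mem (inv_mem (neg_mem_std _ _ (iu_mem r.i r.sq))) this) (inv_mem hzR)
    rwa [inv_mul_cancel_left, mul_inv_cancel_right] at this
  have hb : bdU x₀ x₀⁻¹ ∈ r.R Four := by
    have := mul_mem (inv_mem (pu_mem r.i r.sq ((1 : ZMod 2), (0 : ZMod 2)) 0)) hwR
    have hxi : x⁻¹ = x := inv_eq_of_mul_eq_one_right hx
    rwa [show (x⁻¹ * (D * x * D⁻¹) : GL Four F) = bdU x₀ x₀⁻¹ by
      rw [show x⁻¹ * (D * x * D⁻¹) = x⁻¹ * D * x * D⁻¹ by group, hxi]
      nth_rw 2 [← hxi]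
      rw [x1_conj, bdU_inv, bdU_mul, inv_one, one_mul, mul_one]] at this
  obtain ⟨a, ha, b, -, -, e | e⟩ := r.R_decomp hb
  · rwa [(bdU_inj e).1]
  · exfalso
    have hc : x1 * (z1 : GL Four F) = z1 * x1 := by
      have e1 : (x1 : GL Four F) = bdU x₀ x₀⁻¹ * (bdU a b)⁻¹ := by rw [e, mul_inv_cancel_right]
      rw [e1, bdU_inv, bdU_mul]
      exact Units.ext (by rw [Units.val_mul, Units.val_mul, bdU_val, z1_val, bd_mul, bd_mul, mul_one, one_mul,
        mul_neg_one, neg_one_mul])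
    have hv := congrArg (fun M : GL Four F => (M : Matrix Four Four F) (1, 0) (0, 0)) hc
    simp [Units.val_mul, pu_val, pmat, mon_mul, mon_apply, dot_prod, Qubits.dot_zero, Qubits.zero_dot] at hv
    exact r.two (by linear_combination hv)

/-- The kernel of the projection contains the special unitary group. -/
theorem kerQ_ge (hN : ¬ NoCtrl r H) : suGrp (Unitary.frob hF) Four ≤ kerQ H := by
  have hX := projX_ge hF hp hp4 r hH hu hN
  let ψ : Cfsg.SU 4 F p →* GL Four F := (re4 (F := F)).symm.toMonoidHom.comp toG4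
  have hψ : ∀ g, g ∈ ψ.range ↔ g ∈ suGrp (Unitary.frob hF) Four := by
    intro g
    constructor
    · rintro ⟨A, rfl⟩
      refine of_re4_mem hF ?_
      show re4 (re4.symm (toG4 A)) ∈ _
      rw [re4.apply_symm_apply, ← range_toG4]
      exact ⟨A, rfl⟩
    · intro hg
      have := re4_mem hF hg
      rw [← range_toG4] at this
      obtain ⟨A, hA⟩ := this
      exact ⟨A, show re4.symm (toG4 A) = g by rw [hA, re4.symm_apply_apply]⟩
  set N := (kerQ H).comap ψ
  haveI : N.Normal := ⟨fun n hn A => by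
    show ψ (A * n * A⁻¹) ∈ kerQ H
    rw [map_mul, map_mul, map_inv]
    exact kerQ_conj r hH (hX ((hψ _).1 ⟨A, rfl⟩)) hn⟩
  have hpu : ∀ a b : Four, (pu a b : GL Four F) ∈ suGrp (Unitary.frob hF) Four := fun a b =>
    of_re4_mem hF ((u4 hF hp hp4 r).std_le (re4_R_le hF hp hp4 r (pu_mem _ _ a b)))
  rcases Unitary.normal_le_center_or_eq_top hF (Or.inl le_rfl) N with h | h
  · exfalso
    obtain ⟨A, hA⟩ := (hψ _).2 (hpu (1, 0) 0)
    obtain ⟨B, hB⟩ := (hψ _).2 (hpu 0 (1, 0))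
    have hAN : A ∈ N := by
      show ψ A ∈ kerQ H
      rw [hA]; exact R_le_kerQ r hH (pu_mem _ _ _ _)
    have e : (pu (1, 0) 0 : GL Four F) * pu 0 (1, 0) = pu 0 (1, 0) * pu (1, 0) 0 := by
      rw [← hA, ← hB, ← map_mul, ← map_mul, Subgroup.mem_center_iff.1 (h hAN) B]
    have e' : (pu (1, 0) 0 : GL Four F) * pu 0 (1, 0) = -(pu 0 (1, 0) * pu (1, 0) 0) := Units.ext (by
      rw [Units.val_mul, Units.val_neg, Units.val_mul, pu_val, pu_val, pmat_comm]
      simp [dot_prod, Qubits.zero_dot, Qubits.dot_zero, Qubits.dot])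
    rw [e] at e'
    have e2 := congrArg Units.val e'
    rw [Units.val_neg, eq_neg_iff_add_eq_zero, ← two_smul F, smul_eq_zero] at e2
    exact (pu 0 (1, 0) * pu (1, 0) 0 : GL Four F).ne_zero (e2.resolve_left r.two)
  · intro g hg
    obtain ⟨A, rfl⟩ := (hψ g).2 hg
    exact h.ge (Subgroup.mem_top A)

/-- The labels of dimension eight as coordinates. -/
noncomputable def e8 : Eight ≃ Fin 8 := Fintype.equivFinOfCardEq (by decide)

omit hp hp4 hH hu in
theorem permU_single {π : Equiv.Perm Eight} (x : Eight) :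
    ((reG e8 (permU π : GL Eight F) : GL (Fin 8) F) : Matrix (Fin 8) (Fin 8) F) *ᵥ Pi.single (e8 x) 1 =
      (Pi.single (e8 (π x)) 1 : Fin 8 → F) := by
  funext i
  rw [Matrix.mulVec_single_one, Matrix.col_apply, reG_val, Matrix.submatrix_apply, Equiv.symm_apply_apply,
    monU_val, mon_apply, Pi.single_apply]
  exact if_congr (Equiv.symm_apply_eq _) rfl rfl

/-- A controlled gate gives the special unitary group. -/
theorem su_le_of_ctrl (hN : ¬ NoCtrl r H) : suGrp (Unitary.frob hF) Eight ≤ H := by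
  classical
  have hK := kerQ_ge hF hp hp4 r hH hu hN
  set M := H.map (reG (F := F) e8).toMonoidHom
  have hM : M ≤ Cfsg.GU 8 F p := by
    rintro _ ⟨g, hg, rfl⟩
    rw [← uGrp_GU hF]
    exact (reG_mem_uGrp _ e8).2 (hu hg).1
  obtain ⟨σ, hσ, hf⟩ := isUnitaryForm_hermForm (n := 8) hF
  obtain ⟨σ', hσ', hf4⟩ := isUnitaryForm_hermForm (n := 4) hF
  obtain rfl : σ' = σ := RingEquiv.ext fun x => by rw [hσ, hσ']
  set a₀ : Eight := (1, (0, 0))
  set b₀ : Eight := (1, (0, 1))
  have hab : e8 a₀ ≠ e8 b₀ := e8.injective.ne (by decide)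
  have hP : Pair hf M (e8 a₀) (e8 b₀) := by
    intro v hv hvv l hl
    set w : Fin 4 → F := fun k => v (e8 (1, e4.symm k))
    have hw : ∀ k, k ≠ e4 (0, 0) → k ≠ e4 (0, 1) → w k = 0 := fun k h1 h2 =>
      hv _ (fun h => h1 (by rw [← (Prod.mk.inj (e8.injective h)).2, Equiv.apply_symm_apply]))
        fun h => h2 (by rw [← (Prod.mk.inj (e8.injective h)).2, Equiv.apply_symm_apply])
    have hww : Cfsg.hermForm 4 F p w w = 0 := by
      rw [norm_two hσ (e4.injective.ne (by decide)) hw w]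
      simp only [w, Equiv.symm_apply_apply]
      rw [← norm_two hσ hab hv v, hvv]
    have hY : re4.symm (ut hf4 w l) ∈ kerQ H := hK (of_re4_mem hF (by
      rw [re4.apply_symm_apply]
      exact ⟨ut_mem_iso hf4 hww hl, ut_mem_sl hf4 w l⟩))
    refine ⟨bdU 1 (re4.symm (ut hf4 w l)), hY, ?_⟩
    refine Units.ext (Matrix.ext fun i j => ?_)
    obtain ⟨⟨u, x⟩, rfl⟩ := e8.surjective i
    obtain ⟨⟨u', y⟩, rfl⟩ := e8.surjective j
    show (reG e8 _ : GL (Fin 8) F).val (e8 (u, x)) (e8 (u', y)) = _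
    rw [reG_val, Matrix.submatrix_apply, Equiv.symm_apply_apply, Equiv.symm_apply_apply, bdU_val, bd_apply,
      ut_entry hσ hf hvv]
    have hz : ∀ z : Four, v (e8 (0, z)) = 0 := fun z =>
      hv _ (e8.injective.ne fun h => absurd (Prod.mk.inj h).1 (by decide))
        (e8.injective.ne fun h => absurd (Prod.mk.inj h).1 (by decide))
    have hy' : ((re4.symm (ut hf4 w l) : GL Four F) : Matrix Four Four F) x y =
        (ut hf4 w l : Matrix (Fin 4) (Fin 4) F) (e4 x) (e4 y) := by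
      conv_rhs => rw [← re4.apply_symm_apply (ut hf4 w l)]
      rw [re4_val, Matrix.reindex_apply, Matrix.submatrix_apply, Equiv.symm_apply_apply, Equiv.symm_apply_apply]
    rcases z2_cases u with rfl | rfl <;> rcases z2_cases u' with rfl | rfl
    · simp [hz, Matrix.one_apply, e8.injective.eq_iff]
    · simp [hz]
    · simp [hz]
    · rw [if_pos rfl, if_neg (show ¬ ((1 : ZMod 2) = 0) by decide), hy', ut_entry hσ hf4 hww]
      simp [w, e4.injective.eq_iff, e8.injective.eq_iff]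
  have hmove : ∀ a b : Fin 8, a ≠ b → ∃ g ∈ M, ∃ c d : F, c ≠ 0 ∧ d ≠ 0 ∧
      (g : Matrix (Fin 8) (Fin 8) F) *ᵥ Pi.single (e8 a₀) 1 = c • (Pi.single a 1 : Fin 8 → F) ∧
      (g : Matrix (Fin 8) (Fin 8) F) *ᵥ Pi.single (e8 b₀) 1 = d • (Pi.single b 1 : Fin 8 → F) := by
    intro a b hne
    obtain ⟨a, rfl⟩ := e8.surjective a
    obtain ⟨b, rfl⟩ := e8.surjective b
    obtain ⟨a', b', t, h, ha, hb⟩ : ∃ (a' b' t : Eight) (_ : dot b' a' = 0),
        (if dot b' a₀ = 1 then a₀ + a' else a₀) + t = a ∧ (if dot b' b₀ = 1 then b₀ + a' else b₀) + t = b :=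
      (by decide +kernel : ∀ a b : Eight, a ≠ b → ∃ (a' b' t : Eight) (_ : dot b' a' = 0),
        (if dot b' ((1, (0, 0)) : Eight) = 1 then (1, (0, 0)) + a' else (1, (0, 0))) + t = a ∧
        (if dot b' ((1, (0, 1)) : Eight) = 1 then (1, (0, 1)) + a' else (1, (0, 1))) + t = b) a b
        fun e => hne (by rw [e])
    have ht : (permU (Equiv.addRight t) : GL Eight F) = pu t 0 := Units.ext (by
      rw [monU_val, pu_val, pmat]
      congr 1
      funext x
      rw [Qubits.zero_dot, sg_zero])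
    refine ⟨reG e8 (pu t 0 * monU (shear a' b' h) (fun _ => (1 : F)) fun _ => one_ne_zero),
      ⟨_, mul_mem (hH (r.R_le_gam (pu_mem _ _ _ _))) (hH (r.shear_mem a' b' h)), rfl⟩,
      1, 1, one_ne_zero, one_ne_zero, ?_, ?_⟩
    all_goals
      rw [map_mul, Units.val_mul, ← Matrix.mulVec_mulVec, ← ht,
        show monU (shear a' b' h) (fun _ => (1 : F)) (fun _ => one_ne_zero) = (permU (shear a' b' h) : GL Eight F)
          from rfl, permU_single, permU_single, one_smul, Equiv.coe_addRight, shear_apply]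
    · simp only [ha]
    · simp only [hb]
  intro g hg
  have hg8 : reG e8 g ∈ Cfsg.GU 8 F p ⊓ Cfsg.Geo.specialLinear (Fin 8) F := by
    rw [← uGrp_GU hF]; exact (reG_mem_suGrp _ e8).2 hg
  obtain ⟨g', hg', e⟩ := su_le_of_pair hF (by omega) (by norm_num) hσ (fun x hx => hM hx) hP hmove hg8
  exact (reG (F := F) e8).injective e ▸ hg'

end Cfsg.Agent.H12.CSix.Eight
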