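import Cfsg.Agent.H12.CSix.Eight.Std
import Cfsg.Agent.H12.CSix.Eight.Trigger
import Cfsg.Agent.H97.CSix.Final

/-!
The symplectic type clause for SU_8.
-/

set_option autoImplicit false
set_option linter.unusedSectionVars false

namespace Cfsg.Agent.H12.CSix.Eight

open Matrix Cfsg.Agent.H97.CSix

variable {F : Type*} [Field F] {ι : Type} [Fintype ι] [DecidableEq ι]

/-- A similitude conjugates the unitary group to itself. -/
theorem conj_mem_uGrp {σ : F ≃+* F} {Q : GL ι F} {c : F} (hc : c ≠ 0)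
    (hQ : (Q : Matrix ι ι F)ᵀ * (Q : Matrix ι ι F).map σ = c • 1) {u : GL ι F} :
    Q⁻¹ * u * Q ∈ uGrp σ ι ↔ u ∈ uGrp σ ι := by
  set v := Q⁻¹ * u * Q
  have hv : (Q : Matrix ι ι F) * (v : Matrix ι ι F) = (u : Matrix ι ι F) * (Q : Matrix ι ι F) := by
    rw [← Units.val_mul, ← Units.val_mul]; congr 1; simp only [v]; group
  have key : (Q : Matrix ι ι F)ᵀ * ((u : Matrix ι ι F)ᵀ * (u : Matrix ι ι F).map σ) * (Q : Matrix ι ι F).map σ =
      c • ((v : Matrix ι ι F)ᵀ * (v : Matrix ι ι F).map σ) := by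
    calc _ = ((u : Matrix ι ι F) * (Q : Matrix ι ι F))ᵀ *
          (((u : Matrix ι ι F) * (Q : Matrix ι ι F)).map σ) := by
            rw [Matrix.transpose_mul, Matrix.map_mul]; simp only [mul_assoc]
      _ = (v : Matrix ι ι F)ᵀ * ((Q : Matrix ι ι F)ᵀ * (Q : Matrix ι ι F).map σ) * (v : Matrix ι ι F).map σ := by
            rw [← hv, Matrix.transpose_mul, Matrix.map_mul]; simp only [mul_assoc]
      _ = _ := by rw [hQ, Matrix.mul_smul, Matrix.smul_mul, mul_one]
  rw [mem_uGrp, mem_uGrp]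
  constructor
  · intro h
    rw [h, ← hQ, mul_assoc] at key
    have h1 := (Matrix.isUnit_transpose _).2 Q.isUnit |>.mul_left_cancel key
    have h2 : IsUnit ((Q : Matrix ι ι F).map σ) := Q.isUnit.map (sMat σ)
    exact h2.mul_right_cancel (h1.trans (one_mul _).symm)
  · intro h
    rw [h, mul_one, hQ] at key
    exact (smul_right_injective _ hc key).symm

variable [Fintype F] {p : ℕ}

/-- The normaliser of a symplectic type group of order 256 is maximal in `SU 8 p`. -/
theorem symp_clause (hF : Fintype.card F = p ^ 2) (hp : p.Prime) (hp4 : p % 4 = 3)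
    {R : Subgroup (GL (Fin 8) F)} (hR : Cfsg.Geo.IsSymplecticTypeGroup 2 R)
    (habs : Cfsg.Geo.ActsAbsolutelyIrreducibly (Cfsg.Geo.matrixSet R)) (hle : R ≤ Cfsg.GU 8 F p)
    (hcard : Nat.card R = 256) (hZ : Nat.card (Subgroup.center R) = 4) :
    Cfsg.Geo.IsMaximalIn (Cfsg.GU 8 F p ⊓ Cfsg.Geo.specialLinear (Fin 8) F)
      (Cfsg.Geo.subgroupNormalizer R ⊓ (Cfsg.GU 8 F p ⊓ Cfsg.Geo.specialLinear (Fin 8) F)) := by
  classical
  have h2 : (2 : F) ≠ 0 := by
    haveI := Fact.mk hp
    haveI := charP_of_card_eq_prime_pow hF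
    intro h
    have hd : p ∣ 2 := (CharP.cast_eq_zero_iff F p 2).1 (by exact_mod_cast h)
    have := Nat.le_of_dvd two_pos hd
    omega
  obtain ⟨r, hd⟩ := exists_sympData h2 R hR habs hZ
  obtain ⟨e, Q, hmap⟩ := exists_stdQ hd hcard.ge
  set σ := Unitary.frob hF with hσdef
  have hσi : σ r.i = -r.i := by
    rw [hσdef, Unitary.frob_apply]
    exact (u4 hF hp hp4 r).ip
  set Φ : GL (Fin 8) F ≃* GL H97.CSix.Eight F := (reG e).trans (MulAut.conj Q⁻¹) with hΦdef
  have hΦ : ∀ g, Φ g = Q⁻¹ * reG e g * Q := fun g => by simp [Φ, MulAut.conj_apply]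
  obtain ⟨c, hQ⟩ := schur r.i r.sq r.two (M := (Q : Matrix H97.CSix.Eight H97.CSix.Eight F)ᵀ *
      (Q : Matrix H97.CSix.Eight H97.CSix.Eight F).map σ) (ι := H97.CSix.Eight) fun g hg => by
    obtain ⟨k, a, b, hk⟩ := hg
    obtain ⟨g₀, hg₀, he⟩ := hmap.ge (pu_mem r.i r.sq a b)
    have hu : reG e g₀ ∈ uGrp σ _ := (reG_mem_uGrp σ e).2 (by rw [hσdef, uGrp_GU hF]; exact hle hg₀)
    rw [mem_uGrp] at hu
    have hv : (Q : Matrix H97.CSix.Eight H97.CSix.Eight F) * pmat F a b =
        (reG e g₀ : GL H97.CSix.Eight F).val * (Q : Matrix H97.CSix.Eight H97.CSix.Eight F) := by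
      rw [← pu_val, ← Units.val_mul, ← Units.val_mul, ← he]
      congr 1
      show Q * Φ g₀ = _
      rw [hΦ]; group
    have key : (pmat F a b)ᵀ * ((Q : Matrix H97.CSix.Eight H97.CSix.Eight F)ᵀ *
        (Q : Matrix H97.CSix.Eight H97.CSix.Eight F).map σ) * (pmat F a b).map σ =
        (Q : Matrix H97.CSix.Eight H97.CSix.Eight F)ᵀ * (Q : Matrix H97.CSix.Eight H97.CSix.Eight F).map σ := by
      calc _ = ((Q : Matrix H97.CSix.Eight H97.CSix.Eight F) * pmat F a b)ᵀ *
            (((Q : Matrix H97.CSix.Eight H97.CSix.Eight F) * pmat F a b).map σ) := by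
              rw [Matrix.transpose_mul, Matrix.map_mul]; simp only [mul_assoc]
        _ = (Q : Matrix H97.CSix.Eight H97.CSix.Eight F)ᵀ *
            ((reG e g₀ : GL H97.CSix.Eight F).valᵀ * (reG e g₀ : GL H97.CSix.Eight F).val.map σ) *
            (Q : Matrix H97.CSix.Eight H97.CSix.Eight F).map σ := by
              rw [hv, Matrix.transpose_mul, Matrix.map_mul]; simp only [mul_assoc]
        _ = _ := by rw [hu, mul_one]
    have hreal : (pmat F a b).map σ = pmat F a b := by
      ext y x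
      simp only [Matrix.map_apply, pmat, mon_apply]
      split_ifs <;> simp [map_sg r hσi]
    have hinv := pmat_transpose_mul (σ := σ) r hσi a b
    rw [hreal] at key hinv
    rw [hk, mul_smul_comm, smul_mul_assoc]
    congr 1
    conv_rhs => rw [← key]
    rw [mul_assoc (pmat F a b)ᵀ, ← mul_assoc (pmat F a b), mul_eq_one_comm.1 hinv, one_mul]
  have hc : c ≠ 0 := by
    rintro rfl
    rw [zero_smul] at hQ
    exact ((Matrix.isUnit_transpose _).2 Q.isUnit |>.mul (Q.isUnit.map (sMat σ))).ne_zero hQ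
  have hS : ∀ g, Φ g ∈ suGrp σ _ ↔ g ∈ Cfsg.GU 8 F p ⊓ Cfsg.Geo.specialLinear (Fin 8) F := fun g => by
    rw [← uGrp_GU hF, ← hσdef]
    refine and_congr ?_ ?_
    · show Φ g ∈ uGrp σ _ ↔ _
      rw [hΦ, conj_mem_uGrp hc hQ]
      exact reG_mem_uGrp σ e
    · show Φ g ∈ Cfsg.Geo.specialLinear _ F ↔ g ∈ Cfsg.Geo.specialLinear (Fin 8) F
      rw [← reG_mem_SL e (g := g), hΦ]
      simp only [Cfsg.Geo.specialLinear, MonoidHom.mem_ker, map_mul, map_inv, inv_mul_cancel_comm]
  have hm : ∀ z, Φ z ∈ R.map Φ.toMonoidHom ↔ z ∈ R := fun z => Subgroup.mem_map_iff_mem Φ.injective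
  have hY : ∀ g, Φ g ∈ r.Y _ ↔ g ∈ Cfsg.Geo.subgroupNormalizer R := fun g => by
    rw [Root.Y, ← hmap, Cfsg.Geo.subgroupNormalizer, Subgroup.mem_normalizer_iff, Subgroup.mem_normalizer_iff]
    constructor
    · intro h x
      have := h (Φ x)
      rwa [← map_inv, ← map_mul, ← map_mul, hm, hm] at this
    · intro h y
      obtain ⟨x, rfl⟩ := Φ.surjective y
      rw [← map_inv, ← map_mul, ← map_mul, hm, hm]
      exact h x
  refine ⟨lt_of_le_of_ne inf_le_right fun eq => ?_, fun M hM hM' => ?_⟩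
  · obtain ⟨X, hX, hXY⟩ := exists_not_Y hF hp hp4 r
    have hdet : bdU (1 : GL Four F) X ∈ suGrp σ H97.CSix.Eight := by
      constructor
      · show bdU (1 : GL Four F) X ∈ uGrp σ _
        have hx : (X : Matrix Four Four F)ᵀ * (X : Matrix Four Four F).map σ = 1 := hX.1
        rw [mem_uGrp, bdU_val, Units.val_one]
        ext ⟨u, u'⟩ ⟨v, v'⟩
        rw [Matrix.mul_apply, Fintype.sum_prod_type,
          Finset.sum_eq_single u (fun d _ hd => Finset.sum_eq_zero fun d' _ => by simp [bd_apply, hd]) (by simp)]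
        by_cases huv : u = v
        · subst huv
          rcases z2_cases u with rfl | rfl
          · simp [bd_apply, Matrix.one_apply, eq_comm]
          · have := congrFun (congrFun hx u') v'
            rw [Matrix.mul_apply] at this
            simpa [bd_apply, z2_ne, Matrix.one_apply] using this
        · rcases z2_cases u with rfl | rfl <;> rcases z2_cases v with rfl | rfl <;>
            simp_all [bd_apply, Matrix.one_apply]
      · show bdU (1 : GL Four F) X ∈ Cfsg.Geo.specialLinear _ F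
        have hx : (X : Matrix Four Four F).det = 1 := by
          simpa using congrArg Units.val (MonoidHom.mem_ker.1 hX.2)
        refine MonoidHom.mem_ker.2 (Units.ext ?_)
        let ee : Four ⊕ Four ≃ H97.CSix.Eight :=
          ⟨Sum.elim (fun a => (0, a)) (fun a => (1, a)), fun w => if w.1 = 0 then .inl w.2 else .inr w.2,
            by rintro (a | a) <;> simp, by rintro ⟨w, a⟩; rcases z2_cases w with rfl | rfl <;> simp⟩
        rw [Matrix.GeneralLinearGroup.val_det_apply, bdU_val, Units.val_one, Units.val_one,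
          ← Matrix.det_submatrix_equiv_self ee,
          show (bd (1 : Matrix Four Four F) X).submatrix ee ee = Matrix.fromBlocks 1 0 0 X by
            ext (a | a) (b | b) <;> simp [ee, bd_apply],
          Matrix.det_fromBlocks_zero₂₁, Matrix.det_one, hx, one_mul]
    obtain ⟨g, hg⟩ := Φ.surjective (bdU 1 X)
    refine hXY (r.mem_Y fun q hq => ?_)
    have hgN := (eq.ge ((hS g).1 (hg ▸ hdet))).1
    have h := r.conj_mem ((hY g).2 hgN) (r.bd_R hq)
    rw [hg, bdU_inv, bdU_mul, bdU_mul, inv_one, one_mul, mul_one] at h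
    obtain ⟨x, hx, y, -, hxy, e' | e'⟩ := r.R_decomp h
    · obtain ⟨rfl, rfl⟩ := bdU_inj e'
      rcases hxy with e1 | e1 <;> rw [e1]
      exacts [hx, neg_mem_std _ _ hx]
    · exfalso
      have hcz : x1 * (z1 : GL H97.CSix.Eight F) = z1 * x1 := by
        have e1 : (x1 : GL H97.CSix.Eight F) = bdU q (X * q * X⁻¹) * (bdU x y)⁻¹ := by
          rw [e', mul_inv_cancel_right]
        rw [e1, bdU_inv, bdU_mul]
        exact Units.ext (by rw [Units.val_mul, Units.val_mul, bdU_val, z1_val, bd_mul, bd_mul, mul_one, one_mul,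
          mul_neg_one, neg_one_mul])
      have hv := congrArg (fun M : GL H97.CSix.Eight F =>
        (M : Matrix H97.CSix.Eight H97.CSix.Eight F) (1, 0) (0, 0)) hcz
      simp [Units.val_mul, pu_val, pmat, mon_mul, mon_apply, dot_prod, Qubits.dot_zero, Qubits.zero_dot] at hv
      exact r.two (by linear_combination hv)
  set M' := M.map Φ.toMonoidHom
  have hgam : r.gam _ ≤ M' := fun x hx => by
    obtain ⟨g, rfl⟩ := Φ.surjective x
    exact ⟨g, hM ⟨(hY g).1 (r.gam_le_Y hx),
      (hS g).1 ⟨gam_le_uGrp r hσi hx, gam_le_SL r hx⟩⟩, rfl⟩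
  by_cases hN : NoCtrl r M'
  · left
    refine le_antisymm (fun g hg => ⟨(hY g).1 (le_normaliser r hgam hN ⟨g, hg, rfl⟩), hM' hg⟩) hM
  · right
    refine le_antisymm hM' fun g hg => ?_
    obtain ⟨g', hg', he⟩ := su_le_of_ctrl hF hp hp4 r hgam (by
      rintro _ ⟨x, hx, rfl⟩
      exact (hS x).2 (hM' hx)) hN ((hS g).2 hg)
    rwa [Φ.injective he] at hg'

end Cfsg.Agent.H12.CSix.Eight
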