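import Cfsg.Agent.H12.CSix.Eight.Uni
import Cfsg.Agent.H97.CSix.Std

/-!
The change of basis to the standard group in dimension eight, with its matrix (after `H97.CSix.Std`).
-/

set_option autoImplicit false
set_option linter.unusedSectionVars false

namespace Cfsg.Agent.H12.CSix.Eight

open Matrix Cfsg.Agent.H97.CSix

variable {F : Type*} [Field F]

/-- A group of order 256 is carried to the standard one by an isomorphism of linear groups. -/
theorem exists_stdQ {R : Subgroup (GL (Fin 8) F)} {r : Root F} (hd : SympData R r) (hcard : 256 ≤ Nat.card R) :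
    ∃ (e : Fin 8 ≃ H97.CSix.Eight) (Q : GL H97.CSix.Eight F),
        R.map ((reG e).trans (MulAut.conj Q⁻¹)).toMonoidHom = r.R H97.CSix.Eight := by
  classical
  obtain ⟨P, hP⟩ := hd.exists_pairs hcard
  obtain ⟨y, c, hc⟩ : ∃ y c, P.proj y c ≠ 0 := by
    by_contra! h
    exact P.proj_ne_zero r.two (by simp) (Matrix.ext fun y c => h y c)
  let e : Fin 8 ≃ Eight := (Fintype.equivFinOfCardEq (show Fintype.card Eight = 8 by decide)).symm
  set B := P.bas c
  set Bs : Matrix Eight Eight F := B.submatrix e.symm _root_.id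
  have hinj : Function.Injective Bs.mulVec := by
    intro a b h
    refine P.bas_injective r.two ⟨y, hc⟩ (funext fun z => ?_)
    have := congrFun h (e z)
    simpa [Bs, Matrix.mulVec, dotProduct] using this
  obtain ⟨Q, hQ⟩ := Matrix.mulVec_injective_iff_isUnit.1 hinj
  let E := (Units.mapEquiv (Matrix.reindexAlgEquiv F F e).toMulEquiv)
  let Φ : GL (Fin 8) F ≃* GL Eight F := E.trans (MulAut.conj Q⁻¹)
  have hΦ : ∀ g, Φ g = Q⁻¹ * E g * Q := fun g => by simp [Φ, MulAut.conj_apply]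
  refine ⟨e, Q, ?_⟩
  show R.map Φ.toMonoidHom = _
  have pull : ∀ (g : GL (Fin 8) F) (a b : Eight), (g : Matrix (Fin 8) (Fin 8) F) * B = B * pmat F a b → Φ g = pu a b := by
    intro g a b h
    rw [hΦ, mul_assoc, inv_mul_eq_iff_eq_mul]
    refine Units.ext ?_
    rw [Units.val_mul, Units.val_mul, pu_val, hQ]
    have e1 : (E g : Matrix Eight Eight F) = (g : Matrix (Fin 8) (Fin 8) F).submatrix e.symm e.symm := rfl
    rw [e1]
    simp only [Bs]
    rw [Matrix.submatrix_mul_equiv, h]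
    exact Matrix.submatrix_mul B (pmat F a b) e.symm _root_.id _root_.id Function.bijective_id
  set R' := R.map Φ.toMonoidHom
  have hmem : ∀ g ∈ R, Φ g ∈ R' := fun g hg => ⟨g, hg, rfl⟩
  have hiu : (iu r.i r.sq : GL H97.CSix.Eight F) ∈ R' := by
    refine ⟨iS (Fin 8) r, hd.imem _ (iS_val r), ?_⟩
    show Φ (iS (Fin 8) r) = _
    rw [hΦ]
    have e1 : E (iS (Fin 8) r) = iu r.i r.sq := Units.ext (by
      show (Matrix.reindexAlgEquiv F F e) (iS (Fin 8) r : Matrix (Fin 8) (Fin 8) F) = _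
      rw [iS_val, map_smul, map_one, iu_val])
    rw [e1, mul_assoc, (show IsScal (iu r.i r.sq : GL H97.CSix.Eight F) from ⟨r.i, iu_val _ _⟩).comm, inv_mul_cancel_left]
  have hneg : ∀ s, (sU s : GL H97.CSix.Eight F) ∈ R' := by
    intro s
    rcases z2_cases s with rfl | rfl
    · rw [sU_zero]; exact one_mem _
    · have : (sU 1 : GL H97.CSix.Eight F) = iu r.i r.sq * iu r.i r.sq :=
        Units.ext (by simp [sU_val, iu_val, smul_smul, r.sq])
      rw [this]; exact mul_mem hiu hiu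
  have hadd : ∀ v w : Eight × Eight, (cl v : GL H97.CSix.Eight F) ∈ R' → cl w ∈ R' → cl (v + w) ∈ R' := by
    intro v w hv hw
    have : (cl (v + w) : GL H97.CSix.Eight F) = (sU (dot v.2 w.1))⁻¹ * (cl v * cl w) := by
      rw [cl_mul, inv_mul_cancel_left]
    rw [this]
    exact mul_mem (inv_mem (hneg _)) (mul_mem hv hw)
  have hall : ∀ v : Eight × Eight, (cl v : GL H97.CSix.Eight F) ∈ R' := by
    have h0 : (cl 0 : GL H97.CSix.Eight F) ∈ R' := by rw [cl_zero]; exact one_mem _
    have hx : ∀ j, (cl (unit3 j, 0) : GL H97.CSix.Eight F) ∈ R' := fun j => by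
      show pu (unit3 j) 0 ∈ R'
      rw [← pull _ _ _ (P.x_bas c j)]
      exact hmem _ (hP j).2
    have hz : ∀ j, (cl (0, unit3 j) : GL H97.CSix.Eight F) ∈ R' := fun j => by
      show pu 0 (unit3 j) ∈ R'
      rw [← pull _ _ _ (P.z_bas c j)]
      exact hmem _ (hP j).1
    have one : ∀ (v : Eight × Eight) (s : ZMod 2), (cl v : GL H97.CSix.Eight F) ∈ R' → cl (s • v) ∈ R' := fun v s hv => by
      rcases z2_cases s with rfl | rfl
      · rwa [zero_smul]
      · rwa [one_smul]
    rintro ⟨⟨a, b, d⟩, ⟨a', b', d'⟩⟩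
    have := hadd _ _ (hadd _ _ (hadd _ _ (one _ a (hx 0)) (one _ b (hx 1))) (one _ d (hx 2)))
      (hadd _ _ (hadd _ _ (one _ a' (hz 0)) (one _ b' (hz 1))) (one _ d' (hz 2)))
    convert this using 2 <;> simp [unit3]
  refine le_antisymm ?_ fun g hg => ?_
  · rintro _ ⟨g, hg, rfl⟩
    have hcomm : ∀ h ∈ R', Φ g * h = h * Φ g ∨ Φ g * h = -(h * Φ g) := by
      rintro _ ⟨h, hh, rfl⟩
      show Φ g * Φ h = Φ h * Φ g ∨ Φ g * Φ h = -(Φ h * Φ g)
      rcases hd.comm g hg h hh with e' | e'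
      · exact Or.inl (by rw [← map_mul, e', map_mul])
      · right
        rw [← map_mul, e']
        have hm : Φ (-(h * g)) = Φ (-1) * (Φ h * Φ g) := by rw [← map_mul, ← map_mul, neg_one_mul]
        have h1 : Φ (-1) = -1 := by
          rw [hΦ]
          have e1 : E (-1) = -1 := Units.ext (by
            show (Matrix.reindexAlgEquiv F F e) (((-1 : GL (Fin 8) F)) : Matrix (Fin 8) (Fin 8) F) = _
            rw [Units.val_neg, Units.val_one, map_neg, map_one, Units.val_neg, Units.val_one])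
          rw [e1, mul_neg_one, neg_mul, inv_mul_cancel]
        rw [hm, h1, neg_one_mul]
    obtain ⟨k, a, b, hk⟩ := r.exists_eq_smul (g := Φ g) fun p hp => by
      obtain ⟨v, s, ⟨d, hd'⟩, rfl⟩ := r.exists_sim hp
      have hs : IsScal s := ⟨d, hd'⟩
      have e1 : Φ g * (s * cl v) * (Φ g)⁻¹ = s * (Φ g * cl v * (Φ g)⁻¹) := by
        rw [← mul_assoc (Φ g), ← hs.comm (Φ g)]; group
      rcases hcomm _ (hall v) with h | h
      · exact Or.inl (by rw [e1, h, mul_inv_cancel_right])
      · exact Or.inr (by rw [e1, h, neg_mul, mul_inv_cancel_right, mul_neg])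
    have hsc : IsScal (Φ g * (pu a b)⁻¹) := ⟨k, by
      have hk' : (Φ g : Matrix Eight Eight F) = k • ((pu a b : GL H97.CSix.Eight F) : Matrix Eight Eight F) := hk
      rw [Units.val_mul, hk', smul_mul_assoc, Units.mul_inv]⟩
    obtain ⟨g', hg', he⟩ : Φ g * (pu a b)⁻¹ ∈ R' := mul_mem (hmem g hg) (inv_mem (hall (a, b)))
    have he' : Φ g' = Φ g * (pu a b)⁻¹ := he
    have hs' : IsScal g' := by
      obtain ⟨d, hd'⟩ := hsc
      refine ⟨d, ?_⟩
      have e2 : ((Q * Φ g' * Q⁻¹ : GL H97.CSix.Eight F) : Matrix Eight Eight F) = d • 1 := by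
        rw [he', ← (show IsScal (Φ g * (pu a b)⁻¹) from ⟨d, hd'⟩).comm Q, mul_inv_cancel_right, hd']
      rw [hΦ, show Q * (Q⁻¹ * E g' * Q) * Q⁻¹ = E g' by group] at e2
      refine (Matrix.reindexAlgEquiv F F e).injective ?_
      rw [map_smul, map_one]
      exact e2
    obtain ⟨m, hm⟩ := hd.scalar_cases hg' hs'
    have hmR : Φ g * (pu a b)⁻¹ ∈ r.R Eight := by
      rw [← he', hm, map_pow]
      refine pow_mem ?_ _
      have e1 : Φ (iS (Fin 8) r) = iu r.i r.sq := by
        rw [hΦ]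
        have e1 : E (iS (Fin 8) r) = iu r.i r.sq := Units.ext (by
          show (Matrix.reindexAlgEquiv F F e) (iS (Fin 8) r : Matrix (Fin 8) (Fin 8) F) = _
          rw [iS_val, map_smul, map_one, iu_val])
        rw [e1, mul_assoc, (show IsScal (iu r.i r.sq : GL H97.CSix.Eight F) from ⟨r.i, iu_val _ _⟩).comm, inv_mul_cancel_left]
      rw [e1]
      exact iu_mem _ _
    have := mul_mem hmR (pu_mem r.i r.sq a b)
    rwa [inv_mul_cancel_right] at this
  · obtain ⟨k, a, b, hk⟩ := hg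
    have e1 : g = iu r.i r.sq ^ k * pu a b := Units.ext (by
      rw [hk, Units.val_mul, Units.val_pow_eq_pow_val, iu_val, smul_pow, one_pow, smul_mul_assoc, one_mul, pu_val])
    rw [e1]
    exact mul_mem (pow_mem hiu k) (hall (a, b))

end Cfsg.Agent.H12.CSix.Eight
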