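import Cfsg.Agent.H97.CSix.Base
import Cfsg.Agent.Unitary.Form
import Cfsg.Agent.Unitary.Field

/-!
Matrices preserving the standard hermitian form on any index set; the generated group of a skew square root of
minus one consists of them.
-/

set_option autoImplicit false
set_option linter.unusedSectionVars false

namespace Cfsg.Agent.H12.CSix.Eight

open Matrix Cfsg.Agent.H97.CSix

variable {F : Type*} [Field F] {ι κ : Type} [Fintype ι] [DecidableEq ι] [Fintype κ] [DecidableEq κ]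

/-- Applying an automorphism to all entries. -/
def sMat (σ : F ≃+* F) : Matrix ι ι F →+* Matrix ι ι F := (σ : F →+* F).mapMatrix

theorem sMat_apply (σ : F ≃+* F) (A : Matrix ι ι F) : sMat σ A = A.map σ := rfl

/-- The standard unitary group on an index set. -/
def uGrp (σ : F ≃+* F) (ι : Type) [Fintype ι] [DecidableEq ι] : Subgroup (GL ι F) where
  carrier := {g | (g : Matrix ι ι F)ᵀ * sMat σ (g : Matrix ι ι F) = 1}
  one_mem' := by simp
  mul_mem' := by
    intro g h hg hh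
    show ((g * h : GL ι F) : Matrix ι ι F)ᵀ * sMat σ ((g * h : GL ι F) : Matrix ι ι F) = 1
    rw [Units.val_mul, Matrix.transpose_mul, map_mul, mul_assoc, ← mul_assoc (g : Matrix ι ι F)ᵀ,
      show (g : Matrix ι ι F)ᵀ * sMat σ (g : Matrix ι ι F) = 1 from hg, one_mul]
    exact hh
  inv_mem' := by
    intro g hg
    show ((g⁻¹ : GL ι F) : Matrix ι ι F)ᵀ * sMat σ ((g⁻¹ : GL ι F) : Matrix ι ι F) = 1
    have h1 : sMat σ (g : Matrix ι ι F) * sMat σ ((g⁻¹ : GL ι F) : Matrix ι ι F) = 1 := by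
      rw [← map_mul, Units.mul_inv, map_one]
    have h2 : ((g⁻¹ : GL ι F) : Matrix ι ι F)ᵀ * (g : Matrix ι ι F)ᵀ = 1 := by
      rw [← Matrix.transpose_mul, Units.mul_inv, Matrix.transpose_one]
    calc ((g⁻¹ : GL ι F) : Matrix ι ι F)ᵀ * sMat σ ((g⁻¹ : GL ι F) : Matrix ι ι F)
        = ((g⁻¹ : GL ι F) : Matrix ι ι F)ᵀ * ((g : Matrix ι ι F)ᵀ * sMat σ (g : Matrix ι ι F)) *
            sMat σ ((g⁻¹ : GL ι F) : Matrix ι ι F) := by
          rw [show (g : Matrix ι ι F)ᵀ * sMat σ (g : Matrix ι ι F) = 1 from hg, mul_one]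
      _ = 1 := by rw [← mul_assoc, h2, one_mul, h1]

theorem mem_uGrp {σ : F ≃+* F} {g : GL ι F} :
    g ∈ uGrp σ ι ↔ (g : Matrix ι ι F)ᵀ * (g : Matrix ι ι F).map σ = 1 := Iff.rfl

theorem uGrp_GU [Fintype F] {n q : ℕ} (hF : Fintype.card F = q ^ 2) :
    uGrp (Unitary.frob hF) (Fin n) = Cfsg.GU n F q := by
  ext g
  rw [mem_uGrp, Unitary.mem_GU_iff, Unitary.preserves_iff_transpose_mul hF]
  exact Iff.rfl

/-- Relabelling. -/
def reG (e : ι ≃ κ) : GL ι F ≃* GL κ F := Units.mapEquiv (Matrix.reindexAlgEquiv F F e).toMulEquiv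

theorem reG_val (e : ι ≃ κ) (g : GL ι F) :
    ((reG e g : GL κ F) : Matrix κ κ F) = (g : Matrix ι ι F).submatrix e.symm e.symm := rfl

theorem reG_mem_uGrp (σ : F ≃+* F) (e : ι ≃ κ) {g : GL ι F} : reG e g ∈ uGrp σ κ ↔ g ∈ uGrp σ ι := by
  rw [mem_uGrp, mem_uGrp, reG_val, Matrix.transpose_submatrix, ← Matrix.submatrix_map, Matrix.submatrix_mul_equiv,
    ← Matrix.submatrix_one_equiv e.symm]
  constructor
  · intro h
    have := congrArg (fun A : Matrix κ κ F => A.submatrix e e) h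
    simpa [Matrix.submatrix_submatrix] using this
  · intro h; rw [h]

theorem reG_mem_SL (e : ι ≃ κ) {g : GL ι F} :
    reG e g ∈ Cfsg.Geo.specialLinear κ F ↔ g ∈ Cfsg.Geo.specialLinear ι F := by
  simp [Cfsg.Geo.specialLinear, MonoidHom.mem_ker, ← Units.val_inj, reG_val]

/-- The special unitary group on an index set. -/
abbrev suGrp (σ : F ≃+* F) (ι : Type) [Fintype ι] [DecidableEq ι] : Subgroup (GL ι F) :=
  uGrp σ ι ⊓ Cfsg.Geo.specialLinear ι F

theorem reG_mem_suGrp (σ : F ≃+* F) (e : ι ≃ κ) {g : GL ι F} : reG e g ∈ suGrp σ κ ↔ g ∈ suGrp σ ι :=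
  and_congr (reG_mem_uGrp σ e) (reG_mem_SL e)

section Gam

variable [AddCommGroup ι] [Qubits ι] (r : Root F) {σ : F ≃+* F} (hσ : σ r.i = -r.i)
include hσ

theorem map_sg (s : ZMod 2) : σ (sg F s) = sg F s := by
  rcases sg_cases (F := F) s with ⟨-, h⟩ | ⟨-, h⟩ <;> simp [h]

theorem pmat_transpose_mul (a b : ι) : (pmat F a b)ᵀ * (pmat F a b).map σ = 1 := by
  ext x y
  rw [Matrix.mul_apply, Finset.sum_eq_single (x + a)]
  · simp only [Matrix.transpose_apply, Matrix.map_apply, pmat, mon_apply, Equiv.coe_addRight, if_true]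
    by_cases h : x = y
    · subst h
      simp [map_sg r hσ, sg_mul_self]
    · simp [h]
  · intro z _ hz
    simp [pmat, mon_apply, hz]
  · simp

theorem R_le_uGrp : r.R ι ≤ uGrp σ ι := by
  rintro g ⟨k, a, b, hk⟩
  rw [mem_uGrp, hk, Matrix.map_smul' _ _ _ (map_mul σ), Matrix.transpose_smul, Matrix.smul_mul, Matrix.mul_smul,
    smul_smul, pmat_transpose_mul r hσ, map_pow σ, hσ, ← mul_pow, show r.i * -r.i = 1 by
      linear_combination -r.sq, one_pow, one_smul]

theorem T_mem_uGrp {p : GL ι F} (hp : p * p = 1) (hpR : p ∈ r.R ι) : r.T p hp ∈ uGrp σ ι := by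
  have hu := R_le_uGrp r hσ hpR
  rw [mem_uGrp] at hu
  have hpp : (p : Matrix ι ι F) * p = 1 := congrArg Units.val hp
  have hpt : (p : Matrix ι ι F)ᵀ * (p : Matrix ι ι F)ᵀ = 1 := by rw [← Matrix.transpose_mul, hpp, Matrix.transpose_one]
  have hmap : (p : Matrix ι ι F).map σ = (p : Matrix ι ι F)ᵀ := by
    calc (p : Matrix ι ι F).map σ = (p : Matrix ι ι F)ᵀ * (p : Matrix ι ι F)ᵀ * (p : Matrix ι ι F).map σ := by
          rw [hpt, one_mul]
      _ = _ := by rw [mul_assoc, hu, mul_one]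
  have hh : sMat σ (half r.i (p : Matrix ι ι F)) = half (-r.i) (p : Matrix ι ι F)ᵀ := by
    rw [half, half, sMat_apply, Matrix.map_add _ (map_add σ), Matrix.map_smul' _ _ _ (map_mul σ),
      Matrix.map_smul' _ _ _ (map_mul σ), hmap, Matrix.map_one _ (map_zero σ) (map_one σ)]
    have h2 : σ (2 : F) = 2 := map_ofNat σ 2
    simp [hσ, h2, sub_eq_add_neg]
  show (half r.i (p : Matrix ι ι F))ᵀ * sMat σ (half r.i (p : Matrix ι ι F)) = 1
  rw [hh, show (half r.i (p : Matrix ι ι F))ᵀ = half r.i (p : Matrix ι ι F)ᵀ by simp [half]]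
  exact half_mul_half r.two r.sq hpt

theorem gam_le_uGrp : r.gam ι ≤ uGrp σ ι := by
  refine (Subgroup.closure_le _).2 ?_
  rintro g (hg | ⟨p, hp, hpR, rfl⟩)
  exacts [R_le_uGrp r hσ hg, T_mem_uGrp r hσ hp hpR]

end Gam

end Cfsg.Agent.H12.CSix.Eight
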